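import Groth.Prelude.Def_DerCA
import Mathlib

/-!
Pro-isomorphisms and essentially constant systems, tested on maps out of the systems.
-/

set_option autoImplicit false

noncomputable section

universe v u v' u'

open CategoryTheory Limits Opposite CategoryTheory.Pretriangulated

namespace Groth.Agent.ProSys

variable {C : Type u} [Category.{v} C]

section

variable {X Y : ARSys.PS C}

@[reassoc]
lemma tr_comp (X : ARSys.PS C) {a b c : ℕ} (h : a ≤ b) (h' : b ≤ c) :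
    ARSys.tr X h' ≫ ARSys.tr X h = ARSys.tr X (h.trans h') := by
  rw [ARSys.tr, ARSys.tr, ARSys.tr, ← X.map_comp]
  exact congrArg X.map (Subsingleton.elim _ _)

lemma tr_refl (X : ARSys.PS C) (a : ℕ) : ARSys.tr X (le_refl a) = 𝟙 _ := by
  rw [ARSys.tr, ← X.map_id]
  exact congrArg X.map (Subsingleton.elim _ _)

@[reassoc]
lemma nat_tr (f : X ⟶ Y) {a b : ℕ} (h : a ≤ b) :
    ARSys.tr X h ≫ f.app (op a) = f.app (op b) ≫ ARSys.tr Y h :=
  f.naturality _

/-- Injectivity of precomposition, in the limit. -/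
def InjTest (f : X ⟶ Y) : Prop :=
  ∀ (n : ℕ) (T : C) (φ φ' : Y.obj (op n) ⟶ T), f.app (op n) ≫ φ = f.app (op n) ≫ φ' →
    ∃ (m : ℕ) (h : n ≤ m), ARSys.tr Y h ≫ φ = ARSys.tr Y h ≫ φ'

/-- Surjectivity of precomposition, in the limit. -/
def SurjTest (f : X ⟶ Y) : Prop :=
  ∀ (n : ℕ) (T : C) (ψ : X.obj (op n) ⟶ T), ∃ (m : ℕ) (h : n ≤ m) (φ : Y.obj (op m) ⟶ T),
    f.app (op m) ≫ φ = ARSys.tr X h ≫ ψ

lemma isProIso_iff (f : X ⟶ Y) : DerCA.IsProIso f ↔ InjTest f ∧ SurjTest f := by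
  constructor
  · intro hf
    refine ⟨fun n T φ φ' hφ => ?_, fun n T ψ => ?_⟩
    · obtain ⟨m, h, b, -, hb⟩ := hf n
      exact ⟨m, h, by rw [← hb, Category.assoc, Category.assoc, hφ]⟩
    · obtain ⟨m, h, b, hb, -⟩ := hf n
      exact ⟨m, h, b ≫ ψ, by rw [← Category.assoc, hb]⟩
  · rintro ⟨hi, hs⟩ n
    obtain ⟨m, h, b, hb⟩ := hs n _ (𝟙 (X.obj (op n)))
    rw [Category.comp_id] at hb
    obtain ⟨k, hk, hk'⟩ := hi m _ (b ≫ f.app (op n)) (ARSys.tr Y h) (by
      rw [← Category.assoc, hb, nat_tr])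
    refine ⟨k, h.trans hk, ARSys.tr Y hk ≫ b, ?_, ?_⟩
    · rw [← nat_tr_assoc, hb, tr_comp]
    · rw [Category.assoc, hk', tr_comp]

lemma isProIso_map {D : Type u'} [Category.{v'} D] (F : C ⥤ D) {f : X ⟶ Y} (hf : DerCA.IsProIso f) :
    DerCA.IsProIso (Functor.whiskerRight f F) := by
  intro n
  obtain ⟨m, h, b, h1, h2⟩ := hf n
  exact ⟨m, h, F.map b, (F.map_comp _ _).symm.trans (congrArg F.map h1),
    (F.map_comp _ _).symm.trans (congrArg F.map h2)⟩

end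

section

variable [Preadditive C] [HasZeroObject C] [HasShift C ℤ] [∀ n : ℤ, (shiftFunctor C n).Additive]
  [Pretriangulated C]

/-- In an inverse system of distinguished triangles the middle map is a pro-isomorphism if the
other two are. -/
theorem isProIso_of_triangles {X Y Z X' Y' Z' : ARSys.PS C} (f : X ⟶ Y) (g : Y ⟶ Z)
    (h : Z ⟶ X ⋙ shiftFunctor C (1 : ℤ)) (f' : X' ⟶ Y') (g' : Y' ⟶ Z')
    (h' : Z' ⟶ X' ⋙ shiftFunctor C (1 : ℤ))
    (hT : ∀ n : ℕ, Triangle.mk (f.app (op n)) (g.app (op n)) (h.app (op n)) ∈ distTriang C)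
    (hT' : ∀ n : ℕ, Triangle.mk (f'.app (op n)) (g'.app (op n)) (h'.app (op n)) ∈ distTriang C)
    (a : X ⟶ X') (b : Y ⟶ Y') (c : Z ⟶ Z') (hf : f ≫ b = a ≫ f') (hg : g ≫ c = b ≫ g')
    (hh : h ≫ Functor.whiskerRight a (shiftFunctor C (1 : ℤ)) = c ≫ h')
    (ha : DerCA.IsProIso a) (hc : DerCA.IsProIso c) : DerCA.IsProIso b := by
  obtain ⟨hia, hsa⟩ := (isProIso_iff a).1 ha
  obtain ⟨hic, hsc⟩ := (isProIso_iff c).1 hc
  obtain ⟨-, hsa1⟩ := (isProIso_iff _).1 (isProIso_map (shiftFunctor C (1 : ℤ)) ha)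
  have hf' : ∀ n, f.app (op n) ≫ b.app (op n) = a.app (op n) ≫ f'.app (op n) := fun n =>
    congr_app hf (op n)
  have hg' : ∀ n, g.app (op n) ≫ c.app (op n) = b.app (op n) ≫ g'.app (op n) := fun n =>
    congr_app hg (op n)
  have hh' : ∀ n, h.app (op n) ≫ (a.app (op n))⟦(1 : ℤ)⟧' = c.app (op n) ≫ h'.app (op n) := fun n =>
    congr_app hh (op n)
  refine (isProIso_iff b).2 ⟨fun n T φ₁ φ₂ hφ => ?_, fun n T ψ => ?_⟩
  · let φ := φ₁ - φ₂
    have hφ0 : b.app (op n) ≫ φ = 0 := by simp [φ, Preadditive.comp_sub, hφ]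
    obtain ⟨m, hm, e1⟩ := hia n T (f'.app (op n) ≫ φ) 0 (by
      rw [← Category.assoc, ← hf', Category.assoc, hφ0, comp_zero, comp_zero])
    rw [comp_zero, nat_tr_assoc] at e1
    obtain ⟨γ, hγ⟩ := Triangle.yoneda_exact₂ _ (hT' m) (ARSys.tr Y' hm ≫ φ) e1
    change Z'.obj (op m) ⟶ T at γ
    change ARSys.tr Y' hm ≫ φ = g'.app (op m) ≫ γ at hγ
    obtain ⟨η, hη⟩ := Triangle.yoneda_exact₃ _ (hT m) (c.app (op m) ≫ γ) (by
      change g.app (op m) ≫ c.app (op m) ≫ γ = 0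
      rw [← Category.assoc, hg', Category.assoc, ← hγ, ← nat_tr_assoc, hφ0, comp_zero])
    change c.app (op m) ≫ γ = h.app (op m) ≫ η at hη
    obtain ⟨k, hk, η', hη'⟩ := hsa1 m T η
    change (a.app (op k))⟦(1 : ℤ)⟧' ≫ η' = (ARSys.tr X hk)⟦(1 : ℤ)⟧' ≫ η at hη'
    have hnat : h.app (op k) ≫ (ARSys.tr X hk)⟦(1 : ℤ)⟧' = ARSys.tr Z hk ≫ h.app (op m) :=
      (h.naturality _).symm
    obtain ⟨l, hl, e2⟩ := hic k T (ARSys.tr Z' hk ≫ γ - h'.app (op k) ≫ η') 0 (by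
      rw [comp_zero, Preadditive.comp_sub, ← nat_tr_assoc, hη, ← Category.assoc (c.app (op k)),
        ← hh', Category.assoc, hη', reassoc_of% hnat, sub_self])
    rw [comp_zero, Preadditive.comp_sub, sub_eq_zero, ← Category.assoc, tr_comp] at e2
    refine ⟨l, hm.trans (hk.trans hl), ?_⟩
    rw [← sub_eq_zero, ← Preadditive.comp_sub, ← tr_comp Y' hm (hk.trans hl), Category.assoc]
    change ARSys.tr Y' _ ≫ ARSys.tr Y' hm ≫ φ = 0
    rw [hγ, nat_tr_assoc, e2, ← nat_tr_assoc]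
    have z : g'.app (op k) ≫ h'.app (op k) = 0 := comp_distTriang_mor_zero₂₃ _ (hT' k)
    rw [reassoc_of% z, zero_comp, comp_zero]
  · obtain ⟨m, hm, α, hα⟩ := hsa n T (f.app (op n) ≫ ψ)
    rw [nat_tr_assoc] at hα
    obtain ⟨k, hk, e1⟩ := hic m (T⟦(1 : ℤ)⟧) (h'.app (op m) ≫ α⟦(1 : ℤ)⟧') 0 (by
      have z : h.app (op m) ≫ (f.app (op m))⟦(1 : ℤ)⟧' = 0 := comp_distTriang_mor_zero₃₁ _ (hT m)
      rw [comp_zero, ← Category.assoc, ← hh', Category.assoc, ← Functor.map_comp, hα,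
        Functor.map_comp, reassoc_of% z, zero_comp])
    rw [comp_zero] at e1
    have hnat : ARSys.tr Z' hk ≫ h'.app (op m) = h'.app (op k) ≫ (ARSys.tr X' hk)⟦(1 : ℤ)⟧' :=
      h'.naturality _
    rw [reassoc_of% hnat, ← Functor.map_comp] at e1
    obtain ⟨θ, hθ⟩ := Triangle.yoneda_exact₃ _ (rot_of_distTriang _ (hT' k))
      ((ARSys.tr X' hk ≫ α)⟦(1 : ℤ)⟧') e1
    change (Y'.obj (op k))⟦(1 : ℤ)⟧ ⟶ T⟦(1 : ℤ)⟧ at θ
    change (ARSys.tr X' hk ≫ α)⟦(1 : ℤ)⟧' = (-(f'.app (op k))⟦(1 : ℤ)⟧') ≫ θ at hθ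
    obtain ⟨θ', hθ'⟩ := (shiftFunctor C (1 : ℤ)).map_surjective (-θ)
    have hf'θ : f'.app (op k) ≫ θ' = ARSys.tr X' hk ≫ α := (shiftFunctor C (1 : ℤ)).map_injective (by
      rw [hθ, Functor.map_comp, hθ', Preadditive.comp_neg, Preadditive.neg_comp])
    obtain ⟨γ, hγ⟩ := Triangle.yoneda_exact₂ _ (hT k)
      (ARSys.tr Y (hm.trans hk) ≫ ψ - b.app (op k) ≫ θ') (by
        change f.app (op k) ≫ (ARSys.tr Y (hm.trans hk) ≫ ψ - b.app (op k) ≫ θ') = 0
        rw [Preadditive.comp_sub, ← Category.assoc (f.app (op k)) (b.app (op k)), hf', Category.assoc,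
          hf'θ, ← nat_tr_assoc a hk, hα, ← tr_comp Y hm hk, Category.assoc, ← nat_tr_assoc f hk,
          sub_self])
    change Z.obj (op k) ⟶ T at γ
    change ARSys.tr Y (hm.trans hk) ≫ ψ - b.app (op k) ≫ θ' = g.app (op k) ≫ γ at hγ
    obtain ⟨l, hl, γ', hγ'⟩ := hsc k T γ
    refine ⟨l, (hm.trans hk).trans hl, ARSys.tr Y' hl ≫ θ' + g'.app (op l) ≫ γ', ?_⟩
    rw [Preadditive.comp_add, ← nat_tr_assoc b hl, ← Category.assoc (b.app (op l)) (g'.app (op l)),
      ← hg', Category.assoc, hγ', ← nat_tr_assoc g hl, ← hγ, Preadditive.comp_sub,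
      ← tr_comp Y (hm.trans hk) hl, Category.assoc]
    abel

end

section

/-- A compatible family of maps from the translates of a system to an object. -/
def toConst (X : ARSys.PS C) (i : ℕ) {B : C} (σ : X.obj (op i) ⟶ B) :
    (DerCA.reindex X (m := fun n => i + n) (fun _ _ h => Nat.add_le_add_left h i)) ⟶
      (Functor.const ℕᵒᵖ).obj B where
  app n := ARSys.tr X (Nat.le_add_right i n.unop) ≫ σ
  naturality n n' φ := by
    change X.map _ ≫ ARSys.tr X _ ≫ σ = (ARSys.tr X _ ≫ σ) ≫ 𝟙 B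
    rw [Category.comp_id, ← Category.assoc, ARSys.tr, ← X.map_comp]
    exact congrArg (fun q => X.map q ≫ σ) (Subsingleton.elim _ _)

lemma isProIso_toConst_iff (X : ARSys.PS C) (i : ℕ) {B : C} (σ : X.obj (op i) ⟶ B) :
    DerCA.IsProIso (toConst X i σ) ↔ ∀ n : ℕ, ∃ (m : ℕ) (hi : i ≤ m) (hn : n ≤ m)
      (b : B ⟶ X.obj (op n)), ARSys.tr X hi ≫ σ ≫ b = ARSys.tr X hn ∧
        ∃ (k : ℕ) (hk : i ≤ k) (b' : B ⟶ X.obj (op k)) (hnk : n ≤ k),
          b' ≫ ARSys.tr X hnk = b ∧ b' ≫ ARSys.tr X hk ≫ σ = 𝟙 B := by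
  constructor
  · intro h n
    obtain ⟨m, hm, b, h1, h2⟩ := h n
    change B ⟶ X.obj (op (i + n)) at b
    change (ARSys.tr X (Nat.le_add_right i m) ≫ σ) ≫ b =
      ARSys.tr X (show i + n ≤ i + m by omega) at h1
    change b ≫ ARSys.tr X (Nat.le_add_right i n) ≫ σ = 𝟙 B at h2
    refine ⟨i + m, Nat.le_add_right i m, by omega, b ≫ ARSys.tr X (show n ≤ i + n by omega), ?_,
      i + n, Nat.le_add_right i n, b, by omega, rfl, h2⟩
    rw [← Category.assoc σ, ← Category.assoc (ARSys.tr X (Nat.le_add_right i m)),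
      ← Category.assoc (ARSys.tr X (Nat.le_add_right i m)) σ, h1, tr_comp]
  · intro h n
    obtain ⟨m, him, hnm, b, h1, k, hk, b', hnk, hbb, h2⟩ := h (i + n)
    refine ⟨max m n, le_max_right _ _, b, ?_, ?_⟩
    · change (ARSys.tr X (Nat.le_add_right i (max m n)) ≫ σ) ≫ b =
        ARSys.tr X (show i + n ≤ i + max m n by omega)
      rw [Category.assoc, ← tr_comp X him (show m ≤ i + max m n by omega), Category.assoc, h1, tr_comp]
    · change b ≫ ARSys.tr X (Nat.le_add_right i n) ≫ σ = 𝟙 B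
      rw [← hbb, Category.assoc, tr_comp_assoc, h2]

lemma isProIso_toConst_mono (X : ARSys.PS C) {i i' : ℕ} (hi : i ≤ i') {B : C} (σ : X.obj (op i) ⟶ B)
    (h : DerCA.IsProIso (toConst X i σ)) : DerCA.IsProIso (toConst X i' (ARSys.tr X hi ≫ σ)) := by
  rw [isProIso_toConst_iff] at h ⊢
  intro n
  obtain ⟨m, him, hnm, b, h1, k, hk, b', hnk, hbb, h2⟩ := h (max n i')
  refine ⟨m, by omega, (le_max_left n i').trans hnm, b ≫ ARSys.tr X (le_max_left n i'), ?_,
    k, (le_max_right n i').trans hnk, b', (le_max_left n i').trans hnk, ?_, ?_⟩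
  · simp only [Category.assoc]
    rw [tr_comp_assoc, ← Category.assoc σ, ← Category.assoc (ARSys.tr X _) (σ ≫ b), h1, tr_comp]
  · rw [← tr_comp X (le_max_left n i') hnk, ← Category.assoc, hbb]
  · rw [tr_comp_assoc, h2]

/-- Essentially constant systems are those with a pro-isomorphism to a constant one. -/
theorem exists_isEssConstant_iff (X : ARSys.PS C) :
    (∃ (B : C) (c : (Functor.const ℕᵒᵖ).obj B ⟶ X), DerCA.IsEssConstant X B c) ↔
      ∃ (B : C) (i : ℕ) (σ : X.obj (op i) ⟶ B), DerCA.IsProIso (toConst X i σ) := by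
  simp only [isProIso_toConst_iff]
  constructor
  · rintro ⟨B, c, i, s, hs, hk⟩
    have hc : ∀ {p q : ℕ} (h : p ≤ q), c.app (op q) ≫ ARSys.tr X h = c.app (op p) := fun {p q} h => by
      rw [← nat_tr]
      exact Category.id_comp _
    refine ⟨B, i, s, fun n => ?_⟩
    obtain ⟨m, him, hnm, e⟩ := hk n
    refine ⟨m, him, hnm, c.app (op n), e.symm, max n i, le_max_right _ _, c.app (op (max n i)),
      le_max_left _ _, hc _, ?_⟩
    rw [← Category.assoc, hc, hs]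
  · rintro ⟨B, i, σ, h⟩
    choose m him hnm b h1 k hk b' hnk hbb h2 using h
    have huniq : ∀ (n p : ℕ) (h : n ≤ p), b p ≫ ARSys.tr X h = b n := by
      intro n p hnp
      obtain ⟨N, hN⟩ : ∃ N, N = max (m n) (m p) := ⟨_, rfl⟩
      have hiN : i ≤ k N := hk N
      have hNk : N ≤ k N := hnk N
      calc b p ≫ ARSys.tr X hnp
          = (b' N ≫ ARSys.tr X hiN ≫ σ) ≫ b p ≫ ARSys.tr X hnp := by rw [h2, Category.id_comp]
        _ = (b' N ≫ ARSys.tr X hiN ≫ σ) ≫ b n := by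
          simp only [Category.assoc]
          congr 1
          rw [← tr_comp X (him p) (show m p ≤ k N by omega),
            Category.assoc, ← Category.assoc σ, ← Category.assoc (ARSys.tr X (him p)), h1, tr_comp,
            tr_comp, ← tr_comp X (hnm n) (show m n ≤ k N by omega), ← h1, tr_comp,
            tr_comp_assoc]
        _ = b n := by rw [h2, Category.id_comp]
    have hσ : b i ≫ σ = 𝟙 B := by
      rw [← huniq i (max (k i) i) (le_max_right _ _), Category.assoc]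
      obtain ⟨N, hN⟩ : ∃ N, N = max (k i) i := ⟨_, rfl⟩
      subst hN
      rw [← hbb (max (k i) i), Category.assoc, tr_comp_assoc, h2]
    refine ⟨B, { app := fun n => b n.unop, naturality := ?_ }, i, σ, hσ, ?_⟩
    · intro p q φ
      change 𝟙 B ≫ b q.unop = b p.unop ≫ X.map φ
      rw [Category.id_comp, show φ = (homOfLE φ.unop.le).op from Subsingleton.elim _ _]
      exact (huniq q.unop p.unop φ.unop.le).symm
    · intro j
      exact ⟨m j, him j, hnm j, (h1 j).symm⟩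

end

end Groth.Agent.ProSys
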