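import Groth.Agent.ProSys.Triangles
import Groth.Agent.DerCat.Devissage

/-!
Systems in the derived category controlled by their homology systems.
-/

set_option autoImplicit false
set_option backward.isDefEq.respectTransparency false

noncomputable section

universe w v u v' u'

open CategoryTheory Limits Opposite CategoryTheory.Pretriangulated DerivedCategory

namespace Groth.Agent.ProSys

variable {A : Type u} [Category.{v} A] [Abelian A] [HasDerivedCategory.{w} A]

section

variable {C : Type u'} [Category.{v'} C]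

lemma isProIso_of_square {X Y X' Y' : ARSys.PS C} (f : X ⟶ Y) (f' : X' ⟶ Y') (e : X ≅ X') (e' : Y ≅ Y')
    (he : f ≫ e'.hom = e.hom ≫ f') (hf : DerCA.IsProIso f') : DerCA.IsProIso f := by
  intro n
  obtain ⟨m, h, b, h1, h2⟩ := hf n
  have hen : ∀ k, f.app k ≫ e'.hom.app k = e.hom.app k ≫ f'.app k := fun k => congr_app he k
  refine ⟨m, h, e'.hom.app _ ≫ b ≫ e.inv.app _, ?_, ?_⟩
  · rw [← Category.assoc, hen, Category.assoc, reassoc_of% h1, nat_tr, ← Category.assoc,
      ← NatTrans.comp_app, e.hom_inv_id, NatTrans.id_app, Category.id_comp]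
  · have : e.inv.app (op n) ≫ f.app (op n) = f'.app (op n) ≫ e'.inv.app (op n) :=
      congr_app (show e.inv ≫ f = f' ≫ e'.inv by
        rw [Iso.inv_comp_eq, ← Category.assoc, Iso.eq_comp_inv, he]) (op n)
    rw [Category.assoc, Category.assoc, this, ← Category.assoc b, h2, nat_tr, ← Category.assoc,
      ← NatTrans.comp_app, e'.hom_inv_id, NatTrans.id_app, Category.id_comp]

lemma isProIso_of_isZero {X Y : ARSys.PS C} (f : X ⟶ Y) (hX : ∀ n, IsZero (X.obj n))
    (hY : ∀ n, IsZero (Y.obj n)) : DerCA.IsProIso f := fun _ =>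
  ⟨_, le_rfl, (hY _).to_ _, (hX _).eq_of_src _ _, (hY _).eq_of_src _ _⟩

lemma isEss_of_isZero {X : ARSys.PS C} (hX : ∀ n, IsZero (X.obj n)) : IsEss X :=
  ⟨_, 0, 𝟙 _, (isProIso_toConst_iff _ _ _).2 fun n => ⟨n, Nat.zero_le _, le_rfl, (hX _).to_ _,
    (hX _).eq_of_src _ _, n, Nat.zero_le _, (hX _).to_ _, le_rfl, (hX _).eq_of_src _ _,
    (hX _).eq_of_src _ _⟩⟩

end

/-- Homology is fully faithful on objects concentrated in one degree. -/
lemma homology_map_bijective (X Y : DerivedCategory A) (i : ℤ) [X.IsGE i] [X.IsLE i] [Y.IsGE i]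
    [Y.IsLE i] : Function.Bijective ((homologyFunctor A i).map : (X ⟶ Y) → _) := by
  obtain ⟨X₀, ⟨eX⟩⟩ := exists_iso_singleFunctor_obj_of_isGE_of_isLE X i
  obtain ⟨Y₀, ⟨eY⟩⟩ := exists_iso_singleFunctor_obj_of_isGE_of_isLE Y i
  let H := homologyFunctor A i
  let α := singleFunctorCompHomologyFunctorIso A i
  have key : ∀ g : X₀ ⟶ Y₀, H.map (eX.hom ≫ (singleFunctor A i).map g ≫ eY.inv) =
      (H.map eX.hom ≫ α.hom.app X₀) ≫ g ≫ α.inv.app Y₀ ≫ H.map eY.inv := fun g => by
    rw [Functor.map_comp, Functor.map_comp, Category.assoc]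
    congr 1
    rw [← Category.assoc (α.hom.app X₀)]
    have := α.hom.naturality g
    simp only [Functor.comp_map, Functor.id_map] at this
    rw [← this, Category.assoc, ← Category.assoc (α.hom.app Y₀), Iso.hom_inv_id_app]
    exact (congrArg (_ ≫ ·) (Category.id_comp _)).symm
  have hsurj : ∀ f : X ⟶ Y, ∃ g : X₀ ⟶ Y₀, f = eX.hom ≫ (singleFunctor A i).map g ≫ eY.inv := fun f => by
    obtain ⟨g, hg⟩ := (singleFunctor A i).map_surjective (eX.inv ≫ f ≫ eY.hom)
    exact ⟨g, by rw [hg]; simp⟩
  refine ⟨fun f f' h => ?_, fun φ => ?_⟩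
  · obtain ⟨g, rfl⟩ := hsurj f
    obtain ⟨g', rfl⟩ := hsurj f'
    rw [key, key, cancel_epi, cancel_mono] at h
    rw [h]
  · refine ⟨eX.hom ≫ (singleFunctor A i).map
      (α.inv.app X₀ ≫ H.map eX.inv ≫ φ ≫ H.map eY.hom ≫ α.hom.app Y₀) ≫ eY.inv, ?_⟩
    rw [key]
    simp [← Functor.map_comp, ← Functor.map_comp_assoc, H]

/-- Bounds from homology. -/
lemma bounds_of_isZero (X : DerivedCategory A) (a b : ℤ)
    (h : ∀ i, i < a ∨ b < i → IsZero ((homologyFunctor A i).obj X)) : X.IsGE a ∧ X.IsLE b :=
  ⟨(isGE_iff X a).2 fun i hi => h i (Or.inl hi), (isLE_iff X b).2 fun i hi => h i (Or.inr hi)⟩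

open DerivedCategory.TStructure

/-- The truncation triangle of a system. -/
lemma triangle_dist (X : ARSys.PS (DerivedCategory A)) (c : ℤ) (n : ℕ) :
    Triangle.mk ((Functor.whiskerLeft X (t.truncLEι c)).app (op n))
      ((Functor.whiskerLeft X (t.truncGTπ c)).app (op n))
      ((Functor.whiskerLeft X (t.truncGTδLE c)).app (op n)) ∈ distTriang _ :=
  t.triangleLEGT_distinguished c (X.obj (op n))

/-- Homology of the lower truncation of a system. -/
def lowIso (X : ARSys.PS (DerivedCategory A)) (c i : ℤ) (h : i ≤ c) :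
    (X ⋙ t.truncLE c) ⋙ homologyFunctor A i ≅ X ⋙ homologyFunctor A i :=
  NatIso.ofComponents
    (fun n => haveI := DerCat.isIso_homology_truncLEι (X.obj n) c i h
      asIso ((homologyFunctor A i).map ((t.truncLEι c).app (X.obj n))))
    (fun {n m} φ => by
      dsimp
      rw [← Functor.map_comp, ← Functor.map_comp]
      exact congrArg _ ((t.truncLEι c).naturality _))

/-- Homology of the upper truncation of a system. -/
def highIso (X : ARSys.PS (DerivedCategory A)) (c i : ℤ) (h : c < i) :
    X ⋙ homologyFunctor A i ≅ (X ⋙ t.truncGT c) ⋙ homologyFunctor A i :=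
  NatIso.ofComponents
    (fun n => haveI := DerCat.isIso_homology_truncGTπ (X.obj n) c i h
      asIso ((homologyFunctor A i).map ((t.truncGTπ c).app (X.obj n))))
    (fun {n m} φ => by
      dsimp
      rw [← Functor.map_comp, ← Functor.map_comp]
      exact congrArg _ ((t.truncGTπ c).naturality _))

lemma isZero_homology_low (X : DerivedCategory A) (c a i : ℤ)
    (hX : ∀ i, i < a → IsZero ((homologyFunctor A i).obj X)) (h : i < a ∨ c < i) :
    IsZero ((homologyFunctor A i).obj ((t.truncLE c).obj X)) := by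
  by_cases hc : c < i
  · exact isZero_of_isLE _ c i hc
  · have := DerCat.isIso_homology_truncLEι X c i (not_lt.1 hc)
    exact (hX i (h.resolve_right hc)).of_iso
      (asIso ((homologyFunctor A i).map ((t.truncLEι c).app X)))

lemma isZero_homology_high (X : DerivedCategory A) (c b i : ℤ)
    (hX : ∀ i, b < i → IsZero ((homologyFunctor A i).obj X)) (h : i ≤ c ∨ b < i) :
    IsZero ((homologyFunctor A i).obj ((t.truncGT c).obj X)) := by
  by_cases hc : i ≤ c
  · exact isZero_of_isGE _ (c + 1) i (by omega)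
  · have := DerCat.isIso_homology_truncGTπ X c i (not_le.1 hc)
    exact (hX i (h.resolve_left hc)).of_iso
      (asIso ((homologyFunctor A i).map ((t.truncGTπ c).app X))).symm

theorem isProIso_of_homology : ∀ (k : ℕ) (a : ℤ) (X Y : ARSys.PS (DerivedCategory A)) (f : X ⟶ Y),
    (∀ n i, i < a ∨ a + k < i → IsZero ((homologyFunctor A i).obj (X.obj n))) →
    (∀ n i, i < a ∨ a + k < i → IsZero ((homologyFunctor A i).obj (Y.obj n))) →
    (∀ i : ℤ, DerCA.IsProIso (Functor.whiskerRight f (homologyFunctor A i))) → DerCA.IsProIso f := by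
  intro k
  induction k with
  | zero =>
    intro a X Y f hX hY hH n
    obtain ⟨m, h, b, h1, h2⟩ := hH a n
    simp only [Nat.cast_zero, add_zero] at hX hY
    have := (bounds_of_isZero _ a a (hX (op n))).1
    have := (bounds_of_isZero _ a a (hX (op n))).2
    have := (bounds_of_isZero _ a a (hY (op n))).1
    have := (bounds_of_isZero _ a a (hY (op n))).2
    have := (bounds_of_isZero _ a a (hX (op m))).1
    have := (bounds_of_isZero _ a a (hX (op m))).2
    have := (bounds_of_isZero _ a a (hY (op m))).1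
    have := (bounds_of_isZero _ a a (hY (op m))).2
    obtain ⟨b', hb'⟩ := (homology_map_bijective (Y.obj (op m)) (X.obj (op n)) a).2 b
    refine ⟨m, h, b', (homology_map_bijective _ _ a).1 ?_, (homology_map_bijective _ _ a).1 ?_⟩
    · rw [Functor.map_comp, hb']; exact h1
    · rw [Functor.map_comp, hb']; exact h2
  | succ k ih =>
    intro a X Y f hX hY hH
    have hb : ∀ i : ℤ, a + k + 1 < i → a + ((k + 1 : ℕ) : ℤ) < i := fun i hi => by push_cast; omega
    refine isProIso_of_triangles _ _ _ _ _ _ (triangle_dist X (a + k)) (triangle_dist Y (a + k))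
      (Functor.whiskerRight f (t.truncLE (a + k))) f (Functor.whiskerRight f (t.truncGT (a + k)))
      ?_ ?_ ?_ ?_ ?_
    · ext n; exact ((t.truncLEι (a + k)).naturality (f.app n)).symm
    · ext n; exact ((t.truncGTπ (a + k)).naturality (f.app n)).symm
    · ext n; exact ((t.truncGTδLE (a + k)).naturality (f.app n)).symm
    · refine ih a _ _ _ (fun n i hi => isZero_homology_low _ _ a _ (fun j hj => hX n j (Or.inl hj)) hi)
        (fun n i hi => isZero_homology_low _ _ a _ (fun j hj => hY n j (Or.inl hj)) hi) fun i => ?_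
      by_cases hi : i ≤ a + k
      · exact isProIso_of_square _ _ (lowIso X _ i hi) (lowIso Y _ i hi) (by
          ext n
          dsimp [lowIso]
          rw [← Functor.map_comp, ← Functor.map_comp]
          exact congrArg _ ((t.truncLEι (a + k)).naturality (f.app n))) (hH i)
      · exact isProIso_of_isZero _
          (fun n => isZero_homology_low _ _ a i (fun j hj => hX n j (Or.inl hj)) (Or.inr (not_le.1 hi)))
          (fun n => isZero_homology_low _ _ a i (fun j hj => hY n j (Or.inl hj)) (Or.inr (not_le.1 hi)))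
    · intro n
      have key := fun (Z : ARSys.PS (DerivedCategory A))
          (hZ : ∀ n i, i < a ∨ a + ((k + 1 : ℕ) : ℤ) < i → IsZero ((homologyFunctor A i).obj (Z.obj n)))
          (n : ℕᵒᵖ) => bounds_of_isZero ((t.truncGT (a + k)).obj (Z.obj n)) (a + k + 1) (a + k + 1)
            (fun i hi => isZero_homology_high _ _ (a + k + 1) _ (fun j hj => hZ n j (Or.inr (hb j hj)))
              (hi.imp (fun h => by omega) id))
      obtain ⟨m, h, b, h1, h2⟩ := isProIso_of_square
        (Functor.whiskerRight (Functor.whiskerRight f (t.truncGT (a + k))) (homologyFunctor A (a + k + 1)))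
        (Functor.whiskerRight f (homologyFunctor A (a + k + 1)))
        (highIso X (a + k) (a + k + 1) (by omega)).symm
        (highIso Y (a + k) (a + k + 1) (by omega)).symm (by
          rw [Iso.symm_hom, Iso.symm_hom, Iso.comp_inv_eq, Category.assoc, Iso.eq_inv_comp]
          ext n
          dsimp [highIso]
          rw [← Functor.map_comp, ← Functor.map_comp]
          exact congrArg _ ((t.truncGTπ (a + k)).naturality (f.app n)).symm)
        (hH (a + k + 1)) n
      have : ((X ⋙ t.truncGT (a + k)).obj (op n)).IsGE (a + k + 1) := (key X hX (op n)).1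
      have : ((X ⋙ t.truncGT (a + k)).obj (op n)).IsLE (a + k + 1) := (key X hX (op n)).2
      have : ((Y ⋙ t.truncGT (a + k)).obj (op n)).IsGE (a + k + 1) := (key Y hY (op n)).1
      have : ((Y ⋙ t.truncGT (a + k)).obj (op n)).IsLE (a + k + 1) := (key Y hY (op n)).2
      have : ((X ⋙ t.truncGT (a + k)).obj (op m)).IsGE (a + k + 1) := (key X hX (op m)).1
      have : ((X ⋙ t.truncGT (a + k)).obj (op m)).IsLE (a + k + 1) := (key X hX (op m)).2
      have : ((Y ⋙ t.truncGT (a + k)).obj (op m)).IsGE (a + k + 1) := (key Y hY (op m)).1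
      have : ((Y ⋙ t.truncGT (a + k)).obj (op m)).IsLE (a + k + 1) := (key Y hY (op m)).2
      obtain ⟨b', hb'⟩ := (homology_map_bijective ((Y ⋙ t.truncGT (a + k)).obj (op m))
        ((X ⋙ t.truncGT (a + k)).obj (op n)) (a + k + 1)).2 b
      refine ⟨m, h, b', (homology_map_bijective _ _ (a + k + 1)).1 ?_,
        (homology_map_bijective _ _ (a + k + 1)).1 ?_⟩
      · rw [Functor.map_comp, hb']; exact h1
      · rw [Functor.map_comp, hb']; exact h2

lemma isEss_of_homology_one (X : ARSys.PS (DerivedCategory A)) (a : ℤ)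
    (hge : ∀ n, (X.obj n).IsGE a) (hle : ∀ n, (X.obj n).IsLE a)
    (h : IsEss (X ⋙ homologyFunctor A a)) : IsEss X := by
  obtain ⟨B, i, σ, h⟩ := h
  let e := (singleFunctorCompHomologyFunctorIso A a).app B
  obtain ⟨σ', hσ'⟩ := (homology_map_bijective (X.obj (op i)) ((singleFunctor A a).obj B) a).2
    (σ ≫ e.inv)
  refine ⟨_, i, σ', (isProIso_toConst_iff _ _ _).2 fun n => ?_⟩
  obtain ⟨m, hi, hn, b, h1, k, hk, b', hnk, h2, h3⟩ := (isProIso_toConst_iff _ _ _).1 h n
  obtain ⟨c, hc⟩ := (homology_map_bijective ((singleFunctor A a).obj B) (X.obj (op n)) a).2 (e.hom ≫ b)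
  obtain ⟨c', hc'⟩ := (homology_map_bijective ((singleFunctor A a).obj B) (X.obj (op k)) a).2 (e.hom ≫ b')
  refine ⟨m, hi, hn, c, (homology_map_bijective _ _ a).1 ?_, k, hk, c', hnk,
    (homology_map_bijective _ _ a).1 ?_, (homology_map_bijective _ _ a).1 ?_⟩
  · rw [Functor.map_comp, Functor.map_comp, hc, hσ', Category.assoc, e.inv_hom_id_assoc]
    exact h1
  · rw [Functor.map_comp, hc', hc, Category.assoc]
    exact congrArg (e.hom ≫ ·) h2
  · rw [Functor.map_comp, Functor.map_comp, hc', hσ', CategoryTheory.Functor.map_id, Category.assoc,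
      ← Category.assoc ((homologyFunctor A a).map (ARSys.tr X hk)), ← Category.assoc b']
    change e.hom ≫ (b' ≫ ARSys.tr (X ⋙ homologyFunctor A a) hk ≫ σ) ≫ e.inv = 𝟙 _
    rw [h3]
    exact (congrArg (e.hom ≫ ·) (Category.id_comp _)).trans e.hom_inv_id

theorem isEss_of_homology : ∀ (k : ℕ) (a : ℤ) (X : ARSys.PS (DerivedCategory A)),
    (∀ n i, i < a ∨ a + k < i → IsZero ((homologyFunctor A i).obj (X.obj n))) →
    (∀ i : ℤ, IsEss (X ⋙ homologyFunctor A i)) → IsEss X := by
  intro k
  induction k with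
  | zero =>
    intro a X hX hH
    simp only [Nat.cast_zero, add_zero] at hX
    exact isEss_of_homology_one X a (fun n => (bounds_of_isZero _ a a (hX n)).1)
      (fun n => (bounds_of_isZero _ a a (hX n)).2) (hH a)
  | succ k ih =>
    intro a X hX hH
    refine isEss_of_triangles _ _ _ (triangle_dist X (a + k)) ?_ ?_
    · refine ih a _ (fun n i hi => isZero_homology_low _ _ a _ (fun j hj => hX n j (Or.inl hj)) hi)
        fun i => ?_
      by_cases hi : i ≤ a + k
      · exact (hH i).of_iso (lowIso X _ i hi).symm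
      · exact isEss_of_isZero fun n =>
          isZero_homology_low _ _ a i (fun j hj => hX n j (Or.inl hj)) (Or.inr (not_le.1 hi))
    · have key := fun n => bounds_of_isZero ((t.truncGT (a + k)).obj (X.obj n)) (a + k + 1) (a + k + 1)
        (fun i hi => isZero_homology_high _ _ (a + k + 1) _
          (fun j hj => hX n j (Or.inr (by push_cast; omega))) (hi.imp (fun h => by omega) id))
      exact isEss_of_homology_one _ (a + k + 1) (fun n => (key n).1) (fun n => (key n).2)
        ((hH (a + k + 1)).of_iso (highIso X (a + k) (a + k + 1) (by omega)))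

end Groth.Agent.ProSys
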