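import Groth.Agent.ProSys.Basic

/-!
Essentially constant systems of triangles.
-/

set_option autoImplicit false

noncomputable section

universe v u v' u'

open CategoryTheory Limits Opposite CategoryTheory.Pretriangulated ZeroObject

namespace Groth.Agent.ProSys

variable {C : Type u} [Category.{v} C]

/-- Essentially constant for some value. -/
def IsEss (X : ARSys.PS C) : Prop :=
  ∃ (B : C) (i : ℕ) (σ : X.obj (op i) ⟶ B), DerCA.IsProIso (toConst X i σ)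

lemma isEss_iff (X : ARSys.PS C) :
    IsEss X ↔ ∃ (B : C) (c : (Functor.const ℕᵒᵖ).obj B ⟶ X), DerCA.IsEssConstant X B c :=
  (exists_isEssConstant_iff X).symm

lemma IsEss.of_iso {X Y : ARSys.PS C} (e : X ≅ Y) (h : IsEss X) : IsEss Y := by
  obtain ⟨B, i, σ, h⟩ := h
  refine ⟨B, i, e.inv.app (op i) ≫ σ, ?_⟩
  rw [isProIso_toConst_iff] at h ⊢
  intro n
  obtain ⟨m, hi, hn, b, h1, k, hk, b', hnk, h2, h3⟩ := h n
  refine ⟨m, hi, hn, b ≫ e.hom.app (op n), ?_, k, hk, b' ≫ e.hom.app (op k), hnk, ?_, ?_⟩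
  · simp only [Category.assoc]
    rw [nat_tr_assoc, ← Category.assoc σ, ← Category.assoc (ARSys.tr X hi), h1, nat_tr,
      ← Category.assoc, ← NatTrans.comp_app, e.inv_hom_id, NatTrans.id_app, Category.id_comp]
  · rw [Category.assoc, ← nat_tr, ← Category.assoc, h2]
  · rw [Category.assoc, ← nat_tr_assoc, ← Category.assoc (e.hom.app (op i)), ← NatTrans.comp_app,
      e.hom_inv_id, NatTrans.id_app, Category.id_comp, h3]

section

variable [Preadditive C] [HasZeroObject C] [HasShift C ℤ] [∀ n : ℤ, (shiftFunctor C n).Additive]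
  [Pretriangulated C]

/-- A levelwise map with pro-zero third term is a pro-isomorphism. -/
theorem isProIso_of_isProZero {X Y Z : ARSys.PS C} (f : X ⟶ Y) (g : Y ⟶ Z)
    (h : Z ⟶ X ⋙ shiftFunctor C (1 : ℤ))
    (hT : ∀ n : ℕ, Triangle.mk (f.app (op n)) (g.app (op n)) (h.app (op n)) ∈ distTriang C)
    (hZ : DerCA.IsProZero Z) : DerCA.IsProIso f := by
  let O : ARSys.PS C := (Functor.const ℕᵒᵖ).obj 0
  let p : X ⟶ O :=
    { app := fun _ => 0, naturality := fun _ _ _ => (isZero_zero C).eq_of_tgt _ _ }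
  let q : O ⟶ X ⋙ shiftFunctor C (1 : ℤ) :=
    { app := fun _ => 0, naturality := fun _ _ _ => (isZero_zero C).eq_of_src _ _ }
  let c : O ⟶ Z :=
    { app := fun _ => 0, naturality := fun _ _ _ => (isZero_zero C).eq_of_src _ _ }
  refine isProIso_of_triangles (𝟙 X) p q f g h
    (fun n => contractible_distinguished (X.obj (op n))) hT (𝟙 X) f c rfl ?_ ?_ ?_ ?_
  · ext n
    change (0 : X.obj n ⟶ 0) ≫ (0 : (0 : C) ⟶ Z.obj n) = f.app n ≫ g.app n
    rw [comp_zero]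
    exact (comp_distTriang_mor_zero₁₂ _ (hT n.unop)).symm
  · ext n
    exact (isZero_zero C).eq_of_src _ _
  · intro n
    exact ⟨n, le_rfl, 𝟙 _, by simp [tr_refl], by simp [tr_refl]⟩
  · intro n
    obtain ⟨m, hm, e⟩ := hZ n
    exact ⟨m, hm, 0, (isZero_zero C).eq_of_src _ _, by rw [e]; simp [c]⟩

/-- The middle of an inverse system of triangles with essentially constant ends. -/
theorem isEss_of_triangles {X Y Z : ARSys.PS C} (f : X ⟶ Y) (g : Y ⟶ Z)
    (h : Z ⟶ X ⋙ shiftFunctor C (1 : ℤ))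
    (hT : ∀ n : ℕ, Triangle.mk (f.app (op n)) (g.app (op n)) (h.app (op n)) ∈ distTriang C)
    (hX : IsEss X) (hZ : IsEss Z) : IsEss Y := by
  obtain ⟨A, iA, sA, hA⟩ := hX
  obtain ⟨B, iC, sC, hC⟩ := hZ
  obtain ⟨i, hiA, hiC⟩ : ∃ i, iA ≤ i ∧ iC ≤ i := ⟨max iA iC, le_max_left _ _, le_max_right _ _⟩
  replace hA := isProIso_toConst_mono X hiA sA hA
  replace hC := isProIso_toConst_mono Z hiC sC hC
  generalize ARSys.tr X hiA ≫ sA = sA at hA
  generalize ARSys.tr Z hiC ≫ sC = sC at hC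
  obtain ⟨m, him, him', b, hb, -⟩ := (isProIso_toConst_iff Z i sC).1 hC i
  let δ : B ⟶ A⟦(1 : ℤ)⟧ := b ≫ h.app (op i) ≫ sA⟦(1 : ℤ)⟧'
  replace hA := isProIso_toConst_mono X him sA hA
  replace hC := isProIso_toConst_mono Z him sC hC
  obtain ⟨W, u, v, hW⟩ := distinguished_cocone_triangle₂ δ
  have hnat : ∀ {p q : ℕ} (hpq : p ≤ q), h.app (op q) ≫ (ARSys.tr X hpq)⟦(1 : ℤ)⟧' =
      ARSys.tr Z hpq ≫ h.app (op p) := fun hpq => (h.naturality _).symm
  obtain ⟨σ, hσ1, hσ2⟩ : ∃ σ : Y.obj (op m) ⟶ W, f.app (op m) ≫ σ = (ARSys.tr X him ≫ sA) ≫ u ∧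
      g.app (op m) ≫ ARSys.tr Z him ≫ sC = σ ≫ v := complete_distinguished_triangle_morphism₂ _ _ (hT m) hW
    (ARSys.tr X him ≫ sA) (ARSys.tr Z him ≫ sC) (by
      change h.app (op m) ≫ (ARSys.tr X him ≫ sA)⟦(1 : ℤ)⟧' = (ARSys.tr Z him ≫ sC) ≫ δ
      rw [Functor.map_comp, reassoc_of% hnat, Category.assoc, ← Category.assoc sC b,
        ← Category.assoc (ARSys.tr Z him) (sC ≫ b), hb])
  let hm : Monotone (fun n : ℕ => m + n) := fun _ _ h => Nat.add_le_add_left h m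
  let R : ℕᵒᵖ ⥤ ℕᵒᵖ := (Monotone.functor hm).op
  let δ' : (Functor.const ℕᵒᵖ).obj B ⟶ (Functor.const ℕᵒᵖ).obj A ⋙ shiftFunctor C (1 : ℤ) :=
    { app := fun _ => δ
      naturality := fun _ _ _ => by
        change 𝟙 B ≫ δ = δ ≫ (shiftFunctor C (1 : ℤ)).map (𝟙 A)
        rw [CategoryTheory.Functor.map_id, Category.id_comp, Category.comp_id] }
  refine ⟨W, m, σ, isProIso_of_triangles (Functor.whiskerLeft R f) (Functor.whiskerLeft R g)
    (Functor.whiskerLeft R h) ((Functor.const ℕᵒᵖ).map u) ((Functor.const ℕᵒᵖ).map v) δ'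
    (fun n => hT (m + n)) (fun _ => hW) (toConst X m _) (toConst Y m σ) (toConst Z m _) ?_ ?_ ?_ hA hC⟩
  · ext n
    change f.app (op (m + n.unop)) ≫ ARSys.tr Y _ ≫ σ = (ARSys.tr X _ ≫ ARSys.tr X him ≫ sA) ≫ u
    rw [← nat_tr_assoc, hσ1, Category.assoc, Category.assoc, Category.assoc]
  · ext n
    change g.app (op (m + n.unop)) ≫ ARSys.tr Z _ ≫ ARSys.tr Z him ≫ sC = (ARSys.tr Y _ ≫ σ) ≫ v
    rw [Category.assoc, ← hσ2, nat_tr_assoc]
  · ext n
    change h.app (op (m + n.unop)) ≫ (ARSys.tr X _ ≫ ARSys.tr X him ≫ sA)⟦(1 : ℤ)⟧' =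
      (ARSys.tr Z _ ≫ ARSys.tr Z him ≫ sC) ≫ δ
    simp only [Functor.map_comp, Category.assoc]
    rw [reassoc_of% hnat, reassoc_of% hnat]
    congr 1
    rw [← Category.assoc sC b, ← Category.assoc (ARSys.tr Z him) (sC ≫ b), hb]

end

end Groth.Agent.ProSys
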